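/-
Reduced rings with finitely many minimal primes: the total ring of fractions is the product of the
fields `FractionRing (A ⧸ p)` and the normalization is the product of the normalizations of the
domains `A ⧸ p`.
-/
import Mathlib.RingTheory.Ideal.MinimalPrime.Localization
import Mathlib.RingTheory.IntegralClosure.IntegrallyClosed
import Mathlib.RingTheory.IntegralClosure.IsIntegralClosure.Basic
import Mathlib.RingTheory.Localization.Integer
import Mathlib.RingTheory.Ideal.Operations
import Mathlib.RingTheory.Finiteness.Basic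
import Mathlib.Algebra.Group.Pi.Units
import Mathlib.RingTheory.Localization.AtPrime.Basic

set_option autoImplicit false
universe u v w

namespace Groth.Agent.RedNorm

section General

/-- An element of a finite product of `A`-algebras is integral iff all its components are. -/
theorem isIntegral_pi_iff {A : Type u} [CommRing A] {ι : Type v} [Finite ι] {B : ι → Type w}
    [∀ i, CommRing (B i)] [∀ i, Algebra A (B i)] (x : ∀ i, B i) :
    IsIntegral A x ↔ ∀ i, IsIntegral A (x i) := by
  classical
  constructor
  · intro h i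
    exact h.map (Pi.evalAlgHom A B i)
  · intro h
    cases nonempty_fintype ι
    rw [← Finset.univ_sum_single x]
    refine IsIntegral.sum _ fun i _ => ?_
    obtain ⟨f, hf, hfx⟩ := h i
    refine ⟨Polynomial.X * f, Polynomial.monic_X.mul hf, ?_⟩
    rw [← Polynomial.aeval_def]
    funext j
    have e : Pi.evalAlgHom A B j (Polynomial.aeval (Pi.single i (x i)) (Polynomial.X * f)) =
        Polynomial.aeval (Pi.single i (x i) j) (Polynomial.X * f) :=
      (Polynomial.aeval_algHom_apply (Pi.evalAlgHom A B j) _ _).symm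
    refine e.trans ?_
    rw [map_mul, Polynomial.aeval_X, Pi.zero_apply]
    by_cases hij : j = i
    · subst hij
      rw [Pi.single_eq_same]
      rw [← Polynomial.aeval_def] at hfx
      rw [hfx, mul_zero]
    · rw [Pi.single_eq_of_ne hij, zero_mul]

/-- For a surjection with kernel killed by an element outside the prime, the local rings agree. -/
theorem bijective_localRingHom_of_surjective {R : Type u} {S : Type v} [CommRing R] [CommRing S]
    (f : R →+* S) (hf : Function.Surjective f) (P : Ideal R) [P.IsPrime] (Q : Ideal S) [Q.IsPrime]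
    (hPQ : P = Q.comap f) (e : R) (he : e ∉ P) (hker : ∀ x, f x = 0 → e * x = 0) :
    Function.Bijective (Localization.localRingHom P Q f hPQ) := by
  constructor
  · rw [injective_iff_map_eq_zero]
    intro z hz
    obtain ⟨a, s, rfl⟩ := IsLocalization.exists_mk'_eq P.primeCompl z
    rw [Localization.localRingHom_mk', IsLocalization.mk'_eq_zero_iff] at hz
    obtain ⟨⟨m, hm⟩, hma⟩ := hz
    obtain ⟨r, rfl⟩ := hf m
    have hr : r ∉ P := by
      rw [hPQ]
      exact hm
    rw [IsLocalization.mk'_eq_zero_iff]
    refine ⟨⟨e * r, (P.primeCompl).mul_mem he hr⟩, ?_⟩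
    rw [mul_assoc]
    exact hker _ (by rw [map_mul]; exact hma)
  · intro z
    obtain ⟨a, ⟨s, hs⟩, rfl⟩ := IsLocalization.exists_mk'_eq Q.primeCompl z
    obtain ⟨a, rfl⟩ := hf a
    obtain ⟨s, rfl⟩ := hf s
    have hs' : s ∉ P := by
      rw [hPQ]
      exact hs
    exact ⟨IsLocalization.mk' _ a (⟨s, hs'⟩ : P.primeCompl), Localization.localRingHom_mk' _ _ _ _ _ _⟩

/-- Integrality over a quotient of `A` is integrality over `A`. -/
theorem isIntegral_quotient_iff {A : Type u} [CommRing A] (I : Ideal A) {K : Type v} [CommRing K]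
    [Algebra A K] [Algebra (A ⧸ I) K] [IsScalarTower A (A ⧸ I) K] (x : K) :
    IsIntegral (A ⧸ I) x ↔ IsIntegral A x :=
  ⟨fun h => isIntegral_trans x h, fun h => h.tower_top⟩

end General

variable (A : Type u) [CommRing A]

instance isPrime_minimalPrimes (p : ↥(minimalPrimes A)) : p.1.IsPrime := p.2.1.1

/-- Two minimal primes are incomparable. -/
theorem eq_of_le {p q : ↥(minimalPrimes A)} (h : q.1 ≤ p.1) : q = p :=
  Subtype.ext (le_antisymm h (p.2.2 q.2.1 h))

/-- An element lying in all minimal primes but `p`, and not in `p`. -/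
theorem exists_mem_all_notMem [Finite ↥(minimalPrimes A)] (p : ↥(minimalPrimes A)) :
    ∃ e : A, e ∉ p.1 ∧ ∀ q : ↥(minimalPrimes A), q ≠ p → e ∈ q.1 := by
  classical
  cases nonempty_fintype ↥(minimalPrimes A)
  by_contra hcon
  push_neg at hcon
  have hle : ((Finset.univ.filter fun q => q ≠ p).inf fun q : ↥(minimalPrimes A) => q.1) ≤ p.1 := by
    intro e he
    by_contra hep
    obtain ⟨q, hq, hqe⟩ := hcon e hep
    exact hqe (Finset.inf_le (f := fun q : ↥(minimalPrimes A) => q.1)
      (Finset.mem_filter.mpr ⟨Finset.mem_univ q, hq⟩) he)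
  obtain ⟨q, hq, hqp⟩ := (Ideal.IsPrime.inf_le' p.2.1.1).mp hle
  exact (Finset.mem_filter.mp hq).2 (eq_of_le A hqp)

variable {A}

theorem eq_zero_of_forall_mem [IsReduced A] {x : A} (h : ∀ p : ↥(minimalPrimes A), x ∈ p.1) : x = 0 := by
  have : x ∈ sInf (⊥ : Ideal A).minimalPrimes := Ideal.mem_sInf.mpr fun {J} hJ => h ⟨J, hJ⟩
  rw [Ideal.sInf_minimalPrimes] at this
  obtain ⟨n, hn⟩ := this
  exact IsReduced.eq_zero x ⟨n, hn⟩

theorem mem_nonZeroDivisors_iff [IsReduced A] {x : A} :
    x ∈ nonZeroDivisors A ↔ ∀ p : ↥(minimalPrimes A), x ∉ p.1 := by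
  refine ⟨fun hx p hp => notMem_nonZeroDivisors_of_mem_mem_minimalPrimes hp p.2 hx, fun h => ?_⟩
  rw [mem_nonZeroDivisors_iff_right]
  intro y hy
  refine eq_zero_of_forall_mem fun p => (p.2.1.1.mem_or_mem ?_).resolve_right (h p)
  rw [hy]
  exact p.1.zero_mem

variable (A)

/-- The product of the residue fields of the minimal primes. -/
abbrev PiFrac := ∀ p : ↥(minimalPrimes A), FractionRing (A ⧸ p.1)

theorem algebraMap_piFrac_eq (a : A) (p : ↥(minimalPrimes A)) :
    (algebraMap A (PiFrac A) a) p = algebraMap (A ⧸ p.1) (FractionRing (A ⧸ p.1)) (Ideal.Quotient.mk p.1 a) := rfl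

theorem algebraMap_fractionRing_eq_zero_iff (a : A) (p : ↥(minimalPrimes A)) :
    algebraMap (A ⧸ p.1) (FractionRing (A ⧸ p.1)) (Ideal.Quotient.mk p.1 a) = 0 ↔ a ∈ p.1 := by
  rw [IsFractionRing.to_map_eq_zero_iff, Ideal.Quotient.eq_zero_iff_mem]

/-- The total ring of fractions of a reduced ring with finitely many minimal primes. -/
theorem isFractionRing_pi [IsReduced A] [Finite ↥(minimalPrimes A)] : IsFractionRing A (PiFrac A) := by
  classical
  cases nonempty_fintype ↥(minimalPrimes A)
  refine (isLocalization_iff _ _).mpr ⟨?_, ?_, ?_⟩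
  · rintro ⟨y, hy⟩
    rw [Pi.isUnit_iff]
    intro p
    rw [isUnit_iff_ne_zero, algebraMap_piFrac_eq, ne_eq, algebraMap_fractionRing_eq_zero_iff]
    exact mem_nonZeroDivisors_iff.mp hy p
  · intro z
    choose e he hemem using exists_mem_all_notMem A
    have hz : ∀ p : ↥(minimalPrimes A), ∃ a b : A, b ∉ p.1 ∧
        z p * (algebraMap A (FractionRing (A ⧸ p.1)) b) = algebraMap A (FractionRing (A ⧸ p.1)) a := fun p => by
      obtain ⟨⟨a, b⟩, hab⟩ := IsLocalization.surj (nonZeroDivisors (A ⧸ p.1)) (z p)
      obtain ⟨a, rfl⟩ := Ideal.Quotient.mk_surjective a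
      obtain ⟨b₀, hb₀⟩ := Ideal.Quotient.mk_surjective (b : A ⧸ p.1)
      refine ⟨a, b₀, fun hmem => nonZeroDivisors.ne_zero b.2 ?_, ?_⟩
      · rw [← hb₀]
        exact Ideal.Quotient.eq_zero_iff_mem.mpr hmem
      · rw [← hb₀] at hab
        exact hab
    choose a b hb hab using hz
    have hsum : ∀ (f : ↥(minimalPrimes A) → A) (q : ↥(minimalPrimes A)),
        algebraMap A (FractionRing (A ⧸ q.1)) (∑ p, e p * f p) =
          algebraMap A (FractionRing (A ⧸ q.1)) (e q * f q) := fun f q => by
      rw [map_sum]
      refine Finset.sum_eq_single q (fun p _ hp => ?_) (fun h => absurd (Finset.mem_univ q) h)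
      exact (algebraMap_fractionRing_eq_zero_iff A _ q).mpr (q.1.mul_mem_right _ (hemem p q (Ne.symm hp)))
    have hs : (∑ p, e p * b p) ∈ nonZeroDivisors A := by
      refine mem_nonZeroDivisors_iff.mpr fun q hq => ?_
      have h0 := (algebraMap_fractionRing_eq_zero_iff A _ q).mpr hq
      have h1 := (hsum b q).symm.trans h0
      exact (q.2.1.1.mem_or_mem ((algebraMap_fractionRing_eq_zero_iff A _ q).mp h1)).elim (he q) (hb q)
    refine ⟨(∑ p, e p * a p, ⟨∑ p, e p * b p, hs⟩), funext fun q => ?_⟩
    show z q * algebraMap A (FractionRing (A ⧸ q.1)) (∑ p, e p * b p) =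
      algebraMap A (FractionRing (A ⧸ q.1)) (∑ p, e p * a p)
    rw [hsum b q, hsum a q, map_mul, map_mul, ← hab q]
    ring
  · intro x y hxy
    refine ⟨1, ?_⟩
    rw [Submonoid.coe_one, one_mul, one_mul]
    refine sub_eq_zero.mp (eq_zero_of_forall_mem fun p => ?_)
    rw [← algebraMap_fractionRing_eq_zero_iff A, map_sub, map_sub, sub_eq_zero]
    exact congrFun hxy p

/-- The total ring of fractions is the product of the residue fields at the minimal primes. -/
noncomputable def piEquiv [IsReduced A] [Finite ↥(minimalPrimes A)] : FractionRing A ≃ₐ[A] PiFrac A :=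
  letI := isFractionRing_pi A
  IsLocalization.algEquiv (nonZeroDivisors A) _ _

/-- The product of the normalizations of the irreducible components. -/
abbrev PiNorm := ∀ p : ↥(minimalPrimes A), integralClosure (A ⧸ p.1) (FractionRing (A ⧸ p.1))

variable {A} in
theorem mem_integralClosure_piFrac_iff [Finite ↥(minimalPrimes A)] (x : PiFrac A) :
    x ∈ integralClosure A (PiFrac A) ↔ ∀ p, x p ∈ integralClosure (A ⧸ p.1) (FractionRing (A ⧸ p.1)) := by
  simp only [mem_integralClosure_iff]
  rw [isIntegral_pi_iff]
  exact forall_congr' fun p => (isIntegral_quotient_iff p.1 (x p)).symm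

/-- The normalization is the product of the normalizations of the components. -/
noncomputable def normEquiv [IsReduced A] [Finite ↥(minimalPrimes A)] :
    integralClosure A (FractionRing A) ≃ₐ[A] PiNorm A :=
  (piEquiv A).mapIntegralClosure.trans
    { toFun := fun x p => ⟨x.1 p, (mem_integralClosure_piFrac_iff x.1).mp x.2 p⟩
      invFun := fun y => ⟨fun p => (y p).1, (mem_integralClosure_piFrac_iff _).mpr fun p => (y p).2⟩
      left_inv := fun _ => rfl
      right_inv := fun _ => rfl
      map_mul' := fun _ _ => rfl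
      map_add' := fun _ _ => rfl
      commutes' := fun _ => rfl }

/-- Finiteness of the normalization from that of the components. -/
theorem finite_integralClosure [IsReduced A] [Finite ↥(minimalPrimes A)]
    (h : ∀ p : ↥(minimalPrimes A),
      Module.Finite (A ⧸ p.1) (integralClosure (A ⧸ p.1) (FractionRing (A ⧸ p.1)))) :
    Module.Finite A (integralClosure A (FractionRing A)) := by
  haveI : ∀ p : ↥(minimalPrimes A), Module.Finite A (integralClosure (A ⧸ p.1) (FractionRing (A ⧸ p.1))) :=
    fun p => by
      haveI := h p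
      exact Module.Finite.trans (A ⧸ p.1) _
  exact Module.Finite.equiv (normEquiv A).symm.toLinearEquiv

/-- The local rings of the normalization are normal domains. -/
theorem isDomain_isIntegrallyClosed_localization [IsReduced A] [Finite ↥(minimalPrimes A)]
    (P : Ideal (integralClosure A (FractionRing A))) [P.IsPrime] :
    IsDomain (Localization.AtPrime P) ∧ IsIntegrallyClosed (Localization.AtPrime P) := by
  classical
  cases nonempty_fintype ↥(minimalPrimes A)
  set φ := normEquiv A
  obtain ⟨i, hi⟩ : ∃ i, φ.symm (Pi.single i 1) ∉ P := by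
    by_contra hcon
    push_neg at hcon
    refine (Ideal.IsPrime.ne_top ‹_›) ((Ideal.eq_top_iff_one P).mpr ?_)
    rw [← map_one φ.symm, ← Finset.univ_sum_single (1 : PiNorm A), map_sum]
    exact P.sum_mem fun j _ => hcon j
  set e := φ.symm (Pi.single i 1)
  let f : integralClosure A (FractionRing A) →+* integralClosure (A ⧸ i.1) (FractionRing (A ⧸ i.1)) :=
    (Pi.evalRingHom _ i).comp φ.toAlgHom.toRingHom
  have hf : Function.Surjective f := fun y => ⟨φ.symm (Pi.single i y), by
    show φ (φ.symm (Pi.single i y)) i = y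
    rw [AlgEquiv.apply_symm_apply, Pi.single_eq_same]⟩
  have hker : ∀ x, f x = 0 → e * x = 0 := fun x hx => by
    apply φ.injective
    rw [map_mul, map_zero, AlgEquiv.apply_symm_apply]
    funext j
    by_cases hj : j = i
    · subst hj
      show _ * φ x j = 0
      rw [show φ x j = 0 from hx, mul_zero]
    · rw [Pi.mul_apply, Pi.single_eq_of_ne hj, zero_mul, Pi.zero_apply]
  have hle : RingHom.ker f ≤ P := fun x hx => by
    have : e * x ∈ P := by rw [hker x hx]; exact P.zero_mem
    exact ((Ideal.IsPrime.mem_or_mem ‹_› this)).resolve_left hi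
  set Q := P.map f
  haveI : Q.IsPrime := Ideal.map_isPrime_of_surjective hf hle
  have hPQ : P = Q.comap f := by
    rw [Ideal.comap_map_of_surjective f hf, sup_eq_left.mpr]
    exact hle
  let eL := RingEquiv.ofBijective _ (bijective_localRingHom_of_surjective f hf P Q hPQ e hi hker)
  haveI : IsIntegrallyClosed (integralClosure (A ⧸ i.1) (FractionRing (A ⧸ i.1))) :=
    integralClosure.isIntegrallyClosedOfFiniteExtension (FractionRing (A ⧸ i.1))
  haveI : IsDomain (Localization.AtPrime Q) :=
    IsLocalization.isDomain_of_atPrime _ Q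
  haveI : IsIntegrallyClosed (Localization.AtPrime Q) :=
    isIntegrallyClosed_of_isLocalization _ Q.primeCompl (Ideal.primeCompl_le_nonZeroDivisors Q)
  haveI : IsDomain (Localization.AtPrime P) := MulEquiv.isDomain _ eL.toMulEquiv
  exact ⟨inferInstance, IsIntegrallyClosed.of_equiv eL.symm⟩

/-- A finite normalization has a conductor which is a nonzerodivisor. -/
theorem exists_nonZeroDivisor_smul_mem (hfin : Module.Finite A (integralClosure A (FractionRing A))) :
    ∃ s ∈ nonZeroDivisors A, ∀ y : integralClosure A (FractionRing A),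
      s • y ∈ LinearMap.range (Algebra.linearMap A (integralClosure A (FractionRing A))) := by
  obtain ⟨t, ht⟩ := hfin.fg_top
  obtain ⟨⟨s, hs⟩, hst⟩ := IsLocalization.exist_integer_multiples (nonZeroDivisors A) t
    (fun y => (y : FractionRing A))
  refine ⟨s, hs, fun y => ?_⟩
  have hy : y ∈ Submodule.span A (t : Set (integralClosure A (FractionRing A))) := ht ▸ Submodule.mem_top
  induction hy using Submodule.span_induction with
  | mem x hx =>
    obtain ⟨r, hr⟩ := hst x hx
    exact ⟨r, Subtype.ext hr⟩
  | zero => rw [smul_zero]; exact Submodule.zero_mem _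
  | add x y _ _ hx hy => rw [smul_add]; exact Submodule.add_mem _ hx hy
  | smul c x _ hx => rw [smul_comm]; exact Submodule.smul_mem _ c hx

end Groth.Agent.RedNorm
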