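/-
The δ-invariant: finiteness for reduced local rings of dimension one with finite normalization,
invariance under isomorphism, and the bound on the number of geometric branches.
-/
import Groth.Prelude.Def_Curv2
import Groth.Prelude.Def_Brnch
import Groth.Agent.RedNorm.Basic
import Mathlib.RingTheory.Length
import Mathlib.RingTheory.KrullDimension.Zero
import Mathlib.RingTheory.KrullDimension.LocalRing
import Mathlib.LinearAlgebra.FreeModule.Finite.Matrix

set_option autoImplicit false
universe u v w

namespace Groth.Agent.RedNorm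

/-- A finite module over a Noetherian local ring of dimension at most one killed by an element
outside all minimal primes has finite length. -/
theorem length_ne_top_of_smul_eq_zero {A : Type u} [CommRing A] [IsLocalRing A] [IsNoetherianRing A]
    (hdim : ringKrullDim A ≤ 1) {M : Type v} [AddCommGroup M] [Module A M] [Module.Finite A M] {s : A}
    (hs : ∀ p ∈ minimalPrimes A, s ∉ p) (h : ∀ x : M, s • x = 0) : Module.length A M ≠ ⊤ := by
  haveI : Ring.KrullDimLE 1 A := Ring.krullDimLE_iff.mpr hdim
  set I := Ideal.span {s} with hI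
  haveI : Ring.KrullDimLE 0 (A ⧸ I) := by
    rw [Ring.krullDimLE_zero_iff]
    intro J hJ
    have hc : (J.comap (Ideal.Quotient.mk I)).IsPrime := Ideal.comap_isPrime _ _
    have hmem : s ∈ J.comap (Ideal.Quotient.mk I) := by
      rw [Ideal.mem_comap, Ideal.Quotient.eq_zero_iff_mem.mpr (Ideal.mem_span_singleton_self s)]
      exact J.zero_mem
    rcases Ring.krullDimLE_one_iff.mp ‹Ring.KrullDimLE 1 A› _ hc with hmin | hmax
    · exact absurd hmem (hs _ hmin)
    · haveI := hmax
      have := Ideal.IsMaximal.map_of_surjective_of_ker_le (f := Ideal.Quotient.mk I) Ideal.Quotient.mk_surjective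
        (m := J.comap (Ideal.Quotient.mk I)) (by rw [Ideal.mk_ker]; exact (Ideal.span_singleton_le_iff_mem _).mpr hmem)
      rw [Ideal.map_comap_of_surjective _ Ideal.Quotient.mk_surjective] at this
      exact this
  haveI : IsArtinianRing (A ⧸ I) := IsNoetherianRing.isArtinianRing_of_krullDimLE_zero
  letI : Module (A ⧸ I) M := Module.IsTorsionBySet.module (I := I) (fun x ⟨a, ha⟩ => by
    obtain ⟨c, rfl⟩ := Ideal.mem_span_singleton'.mp ha
    exact (mul_smul c s x).trans ((congrArg (c • ·) (h x)).trans (smul_zero c)))
  haveI : IsScalarTower A (A ⧸ I) M := ⟨fun a b x => by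
    obtain ⟨b, rfl⟩ := Ideal.Quotient.mk_surjective b
    exact mul_smul a b x⟩
  haveI : Module.Finite (A ⧸ I) M := Module.Finite.of_restrictScalars_finite A (A ⧸ I) M
  rw [Module.length_eq_of_surjective (R := A ⧸ I) (S := A) Ideal.Quotient.mk_surjective]
  exact Module.length_ne_top

/-- A semilinear bijection along a surjective ring map preserves lengths. -/
theorem length_eq_of_semilinear {A : Type u} {B : Type v} [CommRing A] [CommRing B] (σ : A →+* B)
    (hσ : Function.Surjective σ) {M N : Type w} [AddCommGroup M] [Module A M] [AddCommGroup N] [Module B N]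
    (g : M →ₛₗ[σ] N) (hg : Function.Bijective g) : Module.length A M = Module.length B N := by
  haveI : RingHomSurjective σ := ⟨hσ⟩
  apply WithBot.coe_injective
  rw [Module.coe_length, Module.coe_length,
    Order.krullDim_eq_of_orderIso (Submodule.orderIsoMapComapOfBijective g hg)]

/-- The normalization is functorial in ring isomorphisms. -/
theorem exists_normMap {A B : Type u} [CommRing A] [CommRing B] (e : A ≃+* B) :
    ∃ G : integralClosure A (FractionRing A) →ₛₗ[e.toRingHom] integralClosure B (FractionRing B),
      Function.Bijective G ∧ ∀ a, G (algebraMap A _ a) = algebraMap B _ (e a) := by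
  let F : FractionRing A ≃+* FractionRing B := IsFractionRing.ringEquivOfRingEquiv e
  have hF : ∀ a : A, F (algebraMap A _ a) = algebraMap B _ (e a) := fun a =>
    IsFractionRing.ringEquivOfRingEquiv_algebraMap e a
  have hmem : ∀ x, x ∈ integralClosure A (FractionRing A) ↔ F x ∈ integralClosure B (FractionRing B) := by
    intro x
    simp only [mem_integralClosure_iff]
    refine ⟨fun h => h.map_of_comp_eq e.toRingHom F.toRingHom (RingHom.ext fun a => (hF a).symm), fun h => ?_⟩
    have := h.map_of_comp_eq e.symm.toRingHom F.symm.toRingHom (RingHom.ext fun b => by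
      apply F.injective
      show F (algebraMap A _ (e.symm b)) = F (F.symm (algebraMap B _ b))
      rw [hF, e.apply_symm_apply, F.apply_symm_apply])
    rwa [show F.symm.toRingHom (F x) = x from F.symm_apply_apply x] at this
  refine ⟨{ toFun := fun x => ⟨F x.1, (hmem x.1).mp x.2⟩
            map_add' := fun x y => Subtype.ext (map_add F x.1 y.1)
            map_smul' := fun a x => Subtype.ext (by
              show F (a • x.1) = e a • F x.1
              rw [Algebra.smul_def, Algebra.smul_def, map_mul, hF]) }, ?_, fun a => Subtype.ext (hF a)⟩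
  exact ⟨fun x y h => Subtype.ext (F.injective (congrArg Subtype.val h :)),
      fun y => ⟨⟨F.symm y.1, (hmem _).mpr (by rw [F.apply_symm_apply]; exact y.2)⟩,
        Subtype.ext (F.apply_symm_apply y.1)⟩⟩

theorem finite_integralClosure_congr {A B : Type u} [CommRing A] [CommRing B] (e : A ≃+* B)
    (h : Module.Finite A (integralClosure A (FractionRing A))) :
    Module.Finite B (integralClosure B (FractionRing B)) := by
  obtain ⟨G, hG, -⟩ := exists_normMap e
  haveI := h
  haveI : RingHomSurjective e.toRingHom := ⟨e.surjective⟩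
  exact Module.Finite.of_surjective G hG.2

/-- The δ-invariant is invariant under ring isomorphisms. -/
theorem deltaInv_congr {A B : Type u} [CommRing A] [CommRing B] (e : A ≃+* B) :
    Curv2.deltaInv A = Curv2.deltaInv B := by
  obtain ⟨G, hG, hF⟩ := exists_normMap e
  set PA := LinearMap.range (Algebra.linearMap A (integralClosure A (FractionRing A)))
  set PB := LinearMap.range (Algebra.linearMap B (integralClosure B (FractionRing B)))
  have hP : PA = PB.comap G := by
    ext x
    simp only [PA, PB, Submodule.mem_comap, LinearMap.mem_range, Algebra.linearMap_apply]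
    constructor
    · rintro ⟨a, rfl⟩
      exact ⟨e a, (hF a).symm⟩
    · rintro ⟨b, hb⟩
      refine ⟨e.symm b, hG.1 ?_⟩
      rw [hF, e.apply_symm_apply]
      exact hb
  unfold Curv2.deltaInv
  refine length_eq_of_semilinear e.toRingHom e.surjective (PA.mapQ PB G hP.le) ⟨?_, ?_⟩
  · rw [← LinearMap.ker_eq_bot, Submodule.ker_mapQ, ← hP, Submodule.mkQ_map_self]
  · intro y
    obtain ⟨y, rfl⟩ := Submodule.Quotient.mk_surjective PB y
    obtain ⟨x, rfl⟩ := hG.2 y
    exact ⟨Submodule.Quotient.mk x, rfl⟩

section Branches

variable (A : Type u) [CommRing A] [IsLocalRing A]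

/-- Embeddings of a field finite over a local ring into the closure of the residue field are at most
the length. -/
theorem card_ringHom_le_length {R N : Type u} [CommRing R] [CommRing N] [Algebra A R] [Algebra R N]
    [Algebra A N] [IsScalarTower A R N] (hsurj : Function.Surjective (algebraMap A R)) [Module.Finite R N]
    (h : ∀ a ∈ IsLocalRing.maximalIdeal A, algebraMap A N a = 0) :
    Finite {σ : N →+* AlgebraicClosure (IsLocalRing.ResidueField A) //
        σ.comp (algebraMap A N) = Brnch.toClosure A} ∧
      (Nat.card {σ : N →+* AlgebraicClosure (IsLocalRing.ResidueField A) //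
        σ.comp (algebraMap A N) = Brnch.toClosure A} : ℕ∞) ≤ Module.length R N := by
  haveI : Module.Finite A R := Module.Finite.of_surjective (Algebra.linearMap A R) hsurj
  haveI : Module.Finite A N := Module.Finite.trans R N
  letI : Algebra (IsLocalRing.ResidueField A) N :=
    (Ideal.Quotient.lift (IsLocalRing.maximalIdeal A) (algebraMap A N) h).toAlgebra
  haveI : IsScalarTower A (IsLocalRing.ResidueField A) N := IsScalarTower.of_algebraMap_eq fun _ => rfl
  haveI : Module.Finite (IsLocalRing.ResidueField A) N := Module.Finite.of_restrictScalars_finite A _ _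
  letI : Algebra (IsLocalRing.ResidueField A) (AlgebraicClosure (IsLocalRing.ResidueField A)) :=
    AlgebraicClosure.instAlgebra _
  let toHom : {σ : N →+* AlgebraicClosure (IsLocalRing.ResidueField A) //
        σ.comp (algebraMap A N) = Brnch.toClosure A} →
      (N →ₐ[IsLocalRing.ResidueField A] AlgebraicClosure (IsLocalRing.ResidueField A)) :=
    fun σ => ⟨σ.1, fun z => by
      obtain ⟨a, rfl⟩ := Ideal.Quotient.mk_surjective z
      exact DFunLike.congr_fun σ.2 a⟩
  have hinj : Function.Injective toHom := fun σ τ h => Subtype.ext (congrArg AlgHom.toRingHom h)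
  refine ⟨Finite.of_injective toHom hinj, ?_⟩
  rw [← Module.length_eq_of_surjective (R := R) (S := A) hsurj,
    Module.length_eq_of_surjective (R := IsLocalRing.ResidueField A) (S := A) Ideal.Quotient.mk_surjective,
    Module.length_eq_finrank]
  exact_mod_cast (Nat.card_le_card_of_injective toHom hinj).trans
    (card_algHom_le_finrank (IsLocalRing.ResidueField A) _ _)

theorem toResidue_eq_zero [IsNoetherianRing A] [Algebra.IsIntegral (CAlg2.red A) (CAlg2.normRed A)]
    (m : MaximalSpectrum (CAlg2.normRed A)) (a : A) (ha : a ∈ IsLocalRing.maximalIdeal A) :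
    Brnch.toResidue A m a = 0 := by
  haveI := m.isMaximal
  haveI := Ideal.isMaximal_comap_of_isIntegral_of_isMaximal (R := CAlg2.red A) m.asIdeal
  have hmax : ((m.asIdeal.comap (algebraMap (CAlg2.red A) _)).comap (Ideal.Quotient.mk (nilradical A))).IsMaximal :=
    Ideal.comap_isMaximal_of_surjective _ Ideal.Quotient.mk_surjective
  rw [← IsLocalRing.eq_maximalIdeal hmax] at ha
  exact Ideal.Quotient.eq_zero_iff_mem.mpr ha

/-- Embeddings of the residue field of a point of the normalization are at most the residue degree. -/
theorem card_emb_le [IsNoetherianRing A] (m : MaximalSpectrum (CAlg2.normRed A))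
    [Module.Finite (CAlg2.red A) (CAlg2.normRed A)] :
    Finite (Brnch.Emb A m) ∧
      (Nat.card (Brnch.Emb A m) : ℕ∞) ≤ Module.length (CAlg2.red A) (CAlg2.normRed A ⧸ m.asIdeal) :=
  card_ringHom_le_length A (R := CAlg2.red A) (N := CAlg2.normRed A ⧸ m.asIdeal)
    Ideal.Quotient.mk_surjective (toResidue_eq_zero A m)

/-- The residue fields of finitely many maximal ideals of an integral algebra over a local ring are
controlled by the length of the cokernel of the structure map. -/
theorem sum_length_quotient_le {R : Type u} {N : Type v} [CommRing R] [IsLocalRing R] [CommRing N]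
    [Algebra R N] [Algebra.IsIntegral R N] (S : Finset (MaximalSpectrum N)) :
    ∑ m ∈ S, Module.length R (N ⧸ m.asIdeal) ≤
      Module.length R (N ⧸ LinearMap.range (Algebra.linearMap R N)) + 1 := by
  classical
  let Q := fun m : ↥S => N ⧸ m.1.asIdeal
  let q : N →ₗ[R] (∀ m, Q m) :=
    LinearMap.pi fun m : ↥S => (Ideal.Quotient.mkₐ R m.1.asIdeal).toLinearMap
  have hq : Function.Surjective q := fun y => by
    obtain ⟨z, hz⟩ := Ideal.quotientInfToPiQuotient_surj (I := fun m : ↥S => m.1.asIdeal) (fun i j hij =>
      Ideal.isCoprime_iff_sup_eq.mpr (i.1.isMaximal.coprime_of_ne j.1.isMaximal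
        fun h => hij (Subtype.ext (MaximalSpectrum.ext h)))) y
    obtain ⟨z, rfl⟩ := Ideal.Quotient.mk_surjective z
    exact ⟨z, hz⟩
  let P := LinearMap.range (Algebra.linearMap R N)
  have hk : Module.length R (P.map q) ≤ 1 := by
    have hone : ∀ a : R, a • q 1 = q (algebraMap R N a) := fun a => by
      rw [Algebra.algebraMap_eq_smul_one, map_smul]
    let g₀ : R →ₗ[R] ↥(P.map q) := (LinearMap.toSpanSingleton R _ (q 1)).codRestrict (P.map q)
      fun a => ⟨algebraMap R N a, ⟨a, rfl⟩, (hone a).symm⟩
    let g : R ⧸ IsLocalRing.maximalIdeal R →ₗ[R] ↥(P.map q) :=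
      Submodule.liftQ _ g₀ (fun a ha => by
        rw [LinearMap.mem_ker]
        apply Subtype.ext
        show a • q 1 = 0
        rw [hone]
        funext m
        haveI := m.1.isMaximal
        haveI := Ideal.isMaximal_comap_of_isIntegral_of_isMaximal (R := R) m.1.asIdeal
        rw [← IsLocalRing.eq_maximalIdeal (R := R) (I := m.1.asIdeal.comap (algebraMap R N)) inferInstance] at ha
        exact Ideal.Quotient.eq_zero_iff_mem.mpr ha)
    have hg : Function.Surjective g := by
      rintro ⟨y, ⟨x, ⟨a, rfl⟩, rfl⟩⟩
      exact ⟨Submodule.Quotient.mk a, Subtype.ext (hone a)⟩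
    refine (Module.length_le_of_surjective g hg).trans ?_
    haveI : IsSimpleModule R (R ⧸ IsLocalRing.maximalIdeal R) :=
      isSimpleModule_iff_isCoatom.mpr (Ideal.isMaximal_def.mp (IsLocalRing.maximalIdeal.isMaximal _))
    exact le_of_eq (Module.length_eq_one _ _)
  let π := Submodule.mapQ P (P.map q) q (P.le_comap_map q)
  have hπ : Function.Surjective π := fun y => by
    obtain ⟨y, rfl⟩ := Submodule.Quotient.mk_surjective _ y
    obtain ⟨x, rfl⟩ := hq y
    exact ⟨Submodule.Quotient.mk x, rfl⟩
  calc ∑ m ∈ S, Module.length R (N ⧸ m.asIdeal)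
      = ∑ m : ↥S, Module.length R (Q m) := (Finset.sum_coe_sort S _).symm
    _ = Module.length R (∀ m, Q m) := (Module.length_pi_of_fintype R Q).symm
    _ = Module.length R (P.map q) + Module.length R ((∀ m, Q m) ⧸ P.map q) :=
        Module.length_eq_add_of_exact _ _ Subtype.val_injective (Submodule.mkQ_surjective _)
          (LinearMap.exact_subtype_mkQ _)
    _ ≤ 1 + Module.length R (N ⧸ P) := add_le_add hk (Module.length_le_of_surjective π hπ)
    _ = Module.length R (N ⧸ P) + 1 := add_comm _ _

theorem isLocalRing_red : IsLocalRing (CAlg2.red A) := by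
  haveI : Nontrivial (CAlg2.red A) := Ideal.Quotient.nontrivial_iff.mpr fun h => by
    have h1 : (1 : A) ∈ nilradical A := h ▸ Submodule.mem_top
    exact not_isNilpotent_one (mem_nilradical.mp h1)
  exact IsLocalRing.of_surjective' (Ideal.Quotient.mk _) Ideal.Quotient.mk_surjective

/-- The number of geometric branches is at most δ + 1. -/
theorem numGeomBranches_le [IsNoetherianRing A] [IsReduced A]
    (hfin : Module.Finite (CAlg2.red A) (CAlg2.normRed A)) :
    Brnch.numGeomBranches A ≤ Curv2.deltaInv A + 1 := by
  classical
  have e : Curv2.deltaInv A = Curv2.deltaInv (CAlg2.red A) := deltaInv_congr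
    (RingEquiv.ofBijective (Ideal.Quotient.mk (nilradical A)) ⟨fun a b h => by
      have := Ideal.Quotient.eq.mp h
      rw [nilradical_eq_zero] at this
      exact sub_eq_zero.mp this, Ideal.Quotient.mk_surjective⟩)
  rw [e]
  by_cases htop : Curv2.deltaInv (CAlg2.red A) = ⊤
  · simp [htop]
  haveI := isLocalRing_red A
  have hle := fun S => sum_length_quotient_le (R := CAlg2.red A) (N := CAlg2.normRed A) S
  have hpos : ∀ m : MaximalSpectrum (CAlg2.normRed A),
      1 ≤ Module.length (CAlg2.red A) (CAlg2.normRed A ⧸ m.asIdeal) := fun m => by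
    haveI := Ideal.Quotient.nontrivial_iff.mpr m.isMaximal.ne_top
    exact Order.one_le_iff_pos.mpr Module.length_pos
  haveI : Finite (MaximalSpectrum (CAlg2.normRed A)) := by
    by_contra hinf
    haveI := not_finite_iff_infinite.mp hinf
    obtain ⟨S, hS⟩ := Infinite.exists_subset_card_eq (MaximalSpectrum (CAlg2.normRed A))
      ((Curv2.deltaInv (CAlg2.red A)).toNat + 2)
    have h1 : ((S.card : ℕ) : ℕ∞) ≤ Curv2.deltaInv (CAlg2.red A) + 1 := by
      refine le_trans ?_ (hle S)
      simpa using Finset.sum_le_sum (s := S) fun m _ => hpos m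
    rw [hS, Nat.cast_add, ENat.coe_toNat htop] at h1
    exact absurd h1 (not_le.mpr ((ENat.add_lt_add_iff_left htop).mpr (by norm_num)))
  cases nonempty_fintype (MaximalSpectrum (CAlg2.normRed A))
  have hEmb := fun m => card_emb_le A m
  haveI : ∀ m, Finite (Brnch.Emb A m) := fun m => (hEmb m).1
  unfold Brnch.numGeomBranches
  rw [if_pos (minimalPrimes.finite_of_isNoetherianRing A)]
  rw [ENat.card_eq_coe_natCard, Nat.card_sigma, Nat.cast_sum]
  exact (Finset.sum_le_sum fun m _ => (hEmb m).2).trans (hle Finset.univ)

end Branches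

end Groth.Agent.RedNorm
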