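/-
Normalization of reduced Nagata rings and the δ-invariant in dimension one.
-/
import Groth.Prelude.Def_Found
import Groth.Agent.RedNorm.Delta

set_option autoImplicit false
universe u

namespace Groth.Agent.RedNorm

/-- The normalization of a reduced Nagata ring is finite. -/
theorem finite_integralClosure_of_isNagata (A : Type u) [CommRing A] [IsReduced A] (hN : CAlg.IsNagata A) :
    Module.Finite A (integralClosure A (FractionRing A)) := by
  haveI := hN.1
  haveI := (minimalPrimes.finite_of_isNoetherianRing A).to_subtype
  exact finite_integralClosure A fun p => hN.2 p.1 (FractionRing (A ⧸ p.1)) inferInstance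

/-- The δ-invariant of a reduced one-dimensional local ring with finite normalization is finite. -/
theorem deltaInv_lt_top (A : Type u) [CommRing A] [IsLocalRing A] [IsNoetherianRing A] [IsReduced A]
    (hdim : ringKrullDim A ≤ 1) (hfin : Module.Finite A (integralClosure A (FractionRing A))) :
    Curv2.deltaInv A < ⊤ := by
  obtain ⟨s, hs, hsm⟩ := exists_nonZeroDivisor_smul_mem A hfin
  refine lt_top_iff_ne_top.mpr (length_ne_top_of_smul_eq_zero (s := s) hdim
    (fun p hp => mem_nonZeroDivisors_iff.mp hs ⟨p, hp⟩) fun x => ?_)
  obtain ⟨y, rfl⟩ := Submodule.Quotient.mk_surjective _ x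
  rw [← Submodule.Quotient.mk_smul, Submodule.Quotient.mk_eq_zero]
  exact hsm y

/-- δ vanishes exactly when the ring is integrally closed in its total ring of fractions. -/
theorem deltaInv_eq_zero_iff_surjective (A : Type u) [CommRing A] :
    Curv2.deltaInv A = 0 ↔ Function.Surjective (algebraMap A (integralClosure A (FractionRing A))) := by
  unfold Curv2.deltaInv
  rw [Module.length_eq_zero_iff, Submodule.Quotient.subsingleton_iff, LinearMap.range_eq_top]
  rfl

/-- A reduced local ring integrally closed in its total ring of fractions is an integrally closed domain. -/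
theorem isDomain_of_surjective (A : Type u) [CommRing A] [IsLocalRing A] [IsReduced A] [IsNoetherianRing A]
    (h : Function.Surjective (algebraMap A (integralClosure A (FractionRing A)))) :
    IsDomain A ∧ IsIntegrallyClosed A := by
  have hinj : Function.Injective (algebraMap A (integralClosure A (FractionRing A))) := fun a b hab =>
    IsFractionRing.injective A (FractionRing A) (congrArg Subtype.val hab :)
  let e := RingEquiv.ofBijective _ ⟨hinj, h⟩
  haveI := (minimalPrimes.finite_of_isNoetherianRing A).to_subtype
  haveI : IsLocalRing (integralClosure A (FractionRing A)) := e.isLocalRing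
  set M := IsLocalRing.maximalIdeal (integralClosure A (FractionRing A))
  obtain ⟨h1, h2⟩ := isDomain_isIntegrallyClosed_localization A M
  let eM : integralClosure A (FractionRing A) ≃+* Localization.AtPrime M :=
    (IsLocalization.atUnits (integralClosure A (FractionRing A)) M.primeCompl
      (S := Localization.AtPrime M) fun x hx => IsLocalRing.notMem_maximalIdeal.mp hx).toRingEquiv
  exact ⟨MulEquiv.isDomain _ (e.trans eM).toMulEquiv, IsIntegrallyClosed.of_equiv (R := Localization.AtPrime M) (S := A) (e.trans eM).symm⟩

end Groth.Agent.RedNorm
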